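import Groth.Agent.Kunz43.Main

/-! Kunz's theorem for a Noetherian ring. -/

universe u

namespace Groth.Agent.Kunz43

theorem kunz (p : ℕ) [hp : Fact p.Prime] (R : Type u) [CommRing R] [IsNoetherianRing R] [CharP R p] :
    IsRegularRing R ↔ (frobenius R p).Flat := by
  have hcomap : ∀ (q : Ideal R) [q.IsPrime], q = q.comap (frobenius R p) := fun q _ => by
    ext a
    rw [Ideal.mem_comap, frobenius_def]
    exact ⟨fun h => Ideal.pow_mem_of_mem _ h p hp.out.pos, fun h => Ideal.IsPrime.mem_of_pow_mem ‹_› p h⟩
  have hchar : ∀ (q : Ideal R) [q.IsPrime], CharP (Localization.AtPrime q) p := fun q _ =>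
    (CharP.charP_iff_prime_eq_zero hp.out).2 (by
      rw [← map_natCast (algebraMap R (Localization.AtPrime q)), CharP.cast_eq_zero, map_zero])
  have hloc : ∀ (q : Ideal R) [q.IsPrime],
      letI := hchar q
      Localization.localRingHom q q (frobenius R p) (hcomap q) =
        frobenius (Localization.AtPrime q) p := fun q _ => by
    letI := hchar q
    exact Localization.localRingHom_unique q q (frobenius R p) (hcomap q) fun x => by
      rw [frobenius_def, frobenius_def, map_pow]
  constructor
  · intro h
    refine RingHom.Flat.ofLocalizationPrime (frobenius R p) (fun q hq => ?_)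
    have := hchar q
    have := (isRegularRing_iff.mp h) q
    have key : ∀ (q' : Ideal R) [q'.IsPrime] (e : q' = q.comap (frobenius R p)),
        (Localization.localRingHom q' q (frobenius R p) e).Flat := by
      intro q' _ e
      obtain rfl : q' = q := e.trans (hcomap q).symm
      rw [hloc q']
      exact flat_of_isRegularLocalRing p
    exact key _ rfl
  · intro h
    rw [isRegularRing_iff]
    intro q _
    have := hchar q
    refine isRegularLocalRing_of_flat p ?_
    rw [← hloc q]
    exact RingHom.Flat.localRingHom h q q (hcomap q)

end Groth.Agent.Kunz43
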