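import Mathlib

/-! Lech's lemma on independent sequences: powers of an independent sequence have large colength. -/

universe u

namespace Groth.Agent.Kunz43

variable {R : Type u} [CommRing R] {n : ℕ}

/-- Lech independence: a relation among the `f i` has its coefficients in the ideal they generate -/
def Indep (f : Fin n → R) : Prop :=
  ∀ a : Fin n → R, ∑ i, a i * f i = 0 → ∀ i, a i ∈ Ideal.span (Set.range f)

lemma span_update_le {f : Fin n → R} {i : Fin n} {g h : R} (e : f i = g * h) :
    Ideal.span (Set.range f) ≤ Ideal.span (Set.range (Function.update f i h)) := by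
  refine Ideal.span_le.mpr ?_
  rintro _ ⟨j, rfl⟩
  rcases eq_or_ne j i with rfl | hj
  · rw [e]
    exact Ideal.mul_mem_left _ g (Ideal.subset_span ⟨j, Function.update_self _ _ _⟩)
  · exact Ideal.subset_span ⟨j, Function.update_of_ne hj _ _⟩

lemma sum_update (f : Fin n → R) (a : Fin n → R) (i : Fin n) (h : R) :
    ∑ j, a j * Function.update f i h j = a i * h + ∑ j ∈ Finset.univ.erase i, a j * f j := by
  rw [← Finset.add_sum_erase _ _ (Finset.mem_univ i), Function.update_self]
  congr 1
  exact Finset.sum_congr rfl fun j hj => by rw [Function.update_of_ne (Finset.ne_of_mem_erase hj)]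

lemma indep_update {f : Fin n → R} (hf : Indep f) {i : Fin n} {g h : R} (e : f i = g * h) :
    Indep (Function.update f i h) := by
  classical
  intro a ha
  rw [sum_update] at ha
  have key : ∑ j, (if j = i then a i else g * a j) * f j = 0 := by
    rw [← Finset.add_sum_erase _ _ (Finset.mem_univ i), if_pos rfl, e]
    have : ∑ j ∈ Finset.univ.erase i, (if j = i then a i else g * a j) * f j =
        g * ∑ j ∈ Finset.univ.erase i, a j * f j := by
      rw [Finset.mul_sum]
      exact Finset.sum_congr rfl fun j hj => by
        rw [if_neg (Finset.ne_of_mem_erase hj), mul_assoc]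
    rw [this, show a i * (g * h) + g * ∑ j ∈ Finset.univ.erase i, a j * f j =
      g * (a i * h + ∑ j ∈ Finset.univ.erase i, a j * f j) by ring, ha, mul_zero]
  have h0 : a i ∈ Ideal.span (Set.range f) := by simpa using hf _ key i
  obtain ⟨c, hc⟩ := Ideal.mem_span_range_iff_exists_fun.mp h0
  have key2 : ∑ j, (if j = i then c i * h else a j + c j * h) * f j = 0 := by
    rw [← Finset.add_sum_erase _ _ (Finset.mem_univ i), if_pos rfl]
    have h1 : a i * h = (c i * f i) * h + ∑ j ∈ Finset.univ.erase i, c j * h * f j := by
      rw [← hc, ← Finset.add_sum_erase _ _ (Finset.mem_univ i), add_mul, Finset.sum_mul]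
      exact congrArg _ (Finset.sum_congr rfl fun j _ => by ring)
    have : ∑ j ∈ Finset.univ.erase i, (if j = i then c i * h else a j + c j * h) * f j =
        ∑ j ∈ Finset.univ.erase i, a j * f j + ∑ j ∈ Finset.univ.erase i, c j * h * f j := by
      rw [← Finset.sum_add_distrib]
      exact Finset.sum_congr rfl fun j hj => by
        rw [if_neg (Finset.ne_of_mem_erase hj), add_mul]
    rw [this]
    linear_combination ha - h1
  intro j
  rcases eq_or_ne j i with rfl | hj
  · exact span_update_le e h0
  · have hm := span_update_le e (hf _ key2 j)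
    rw [if_neg hj] at hm
    refine (Ideal.add_mem_iff_left _ ?_).mp hm
    exact Ideal.mul_mem_left _ _ (Ideal.subset_span ⟨i, Function.update_self _ _ _⟩)

lemma length_update_add_le {f : Fin n → R} (hf : Indep f) {i : Fin n} {g h : R} (e : f i = g * h) :
    Module.length R (R ⧸ Ideal.span (Set.range (Function.update f i h))) +
      Module.length R (R ⧸ Ideal.span (Set.range (Function.update f i g))) ≤
      Module.length R (R ⧸ Ideal.span (Set.range f)) := by
  classical
  set J := Ideal.span (Set.range f)
  set Jh := Ideal.span (Set.range (Function.update f i h))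
  set Jg := Ideal.span (Set.range (Function.update f i g))
  have hJJg : J ≤ Jg := span_update_le (e.trans (mul_comm g h))
  have hle : Jh ≤ Submodule.comap (LinearMap.mulLeft R g) J := by
    refine Ideal.span_le.mpr ?_
    rintro _ ⟨j, rfl⟩
    show g * Function.update f i h j ∈ J
    rcases eq_or_ne j i with rfl | hj
    · rw [Function.update_self, ← e]; exact Ideal.subset_span ⟨j, rfl⟩
    · rw [Function.update_of_ne hj]; exact Ideal.mul_mem_left _ _ (Ideal.subset_span ⟨j, rfl⟩)
  let μ : (R ⧸ Jh) →ₗ[R] R ⧸ J := Submodule.mapQ Jh J (LinearMap.mulLeft R g) hle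
  let π : (R ⧸ J) →ₗ[R] R ⧸ Jg := Submodule.factor hJJg
  have hμ : Function.Injective μ := by
    rw [injective_iff_map_eq_zero]
    intro x hx
    obtain ⟨a, rfl⟩ := Submodule.Quotient.mk_surjective Jh x
    have hx' : g * a ∈ J := (Submodule.Quotient.mk_eq_zero J).mp hx
    obtain ⟨c, hc⟩ := Ideal.mem_span_range_iff_exists_fun.mp hx'
    -- `g * (a - c i * h) = ∑_{j ≠ i} c j * f j`, multiply by `h`
    have key : ∑ j, (if j = i then a - c i * h else - h * c j) * f j = 0 := by
      rw [← Finset.add_sum_erase _ _ (Finset.mem_univ i), if_pos rfl]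
      have : ∑ j ∈ Finset.univ.erase i, (if j = i then a - c i * h else - h * c j) * f j =
          - h * ∑ j ∈ Finset.univ.erase i, c j * f j := by
        rw [Finset.mul_sum]
        exact Finset.sum_congr rfl fun j hj => by
          rw [if_neg (Finset.ne_of_mem_erase hj), mul_assoc]
      rw [this]
      rw [← Finset.add_sum_erase _ _ (Finset.mem_univ i), e] at hc
      rw [e]
      linear_combination -h * hc
    have h0 := hf _ key i
    rw [if_pos rfl] at h0
    rw [Submodule.Quotient.mk_eq_zero]
    rw [show a = (a - c i * h) + c i * h by ring]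
    exact add_mem (span_update_le e h0)
      (Ideal.mul_mem_left _ _ (Ideal.subset_span ⟨i, Function.update_self _ _ _⟩))
  have hex : Function.Exact μ π := by
    intro y
    obtain ⟨b, rfl⟩ := Submodule.Quotient.mk_surjective J y
    constructor
    · intro hb
      have hb' : b ∈ Jg := (Submodule.Quotient.mk_eq_zero Jg).mp hb
      obtain ⟨c, hc⟩ := Ideal.mem_span_range_iff_exists_fun.mp hb'
      refine ⟨Submodule.Quotient.mk (c i), (Submodule.Quotient.eq J).mpr ?_⟩
      rw [sum_update] at hc
      rw [← hc, LinearMap.mulLeft_apply, mul_comm g]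
      rw [sub_add_eq_sub_sub, sub_self, zero_sub, neg_mem_iff]
      exact sum_mem fun j _ => Ideal.mul_mem_left _ _ (Ideal.subset_span ⟨j, rfl⟩)
    · rintro ⟨x, hx⟩
      obtain ⟨a, rfl⟩ := Submodule.Quotient.mk_surjective Jh x
      rw [← hx]
      exact (Submodule.Quotient.mk_eq_zero Jg).mpr
        (Ideal.mul_mem_right _ _ (Ideal.subset_span ⟨i, Function.update_self _ _ _⟩))
  rw [Module.length_eq_add_of_exact μ π hμ (Submodule.factor_surjective hJJg) hex]

theorem prod_le_length [IsLocalRing R] (x : Fin n → R) (hx : ∀ i, x i ∈ IsLocalRing.maximalIdeal R) :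
    ∀ (N : ℕ) (e : Fin n → ℕ), ∑ i, e i = N → (∀ i, 1 ≤ e i) → Indep (fun i => x i ^ e i) →
      ((∏ i, e i : ℕ) : ℕ∞) ≤ Module.length R (R ⧸ Ideal.span (Set.range fun i => x i ^ e i)) := by
  classical
  intro N
  induction N using Nat.strong_induction_on with
  | _ N ih =>
    intro e hN he hind
    by_cases hall : ∀ i, e i = 1
    · obtain rfl : e = fun _ => 1 := funext hall
      simp only [Finset.prod_const_one, Nat.cast_one]
      have : Nontrivial (R ⧸ Ideal.span (Set.range fun i => x i ^ 1)) := by
        refine Ideal.Quotient.nontrivial_iff.mpr fun h => (IsLocalRing.maximalIdeal.isMaximal R).ne_top ?_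
        rw [eq_top_iff, ← h, Ideal.span_le]
        rintro _ ⟨i, rfl⟩
        simpa using hx i
      exact Order.one_le_iff_pos.mpr Module.length_pos
    push Not at hall
    obtain ⟨i, hi⟩ := hall
    have hi2 : 2 ≤ e i := by have := he i; omega
    have hsplit : x i ^ e i = x i * x i ^ (e i - 1) := by
      rw [← pow_succ', Nat.sub_add_cancel (he i)]
    have hu : ∀ k, (Function.update (fun j => x j ^ e j) i (x i ^ k)) =
        fun j => x j ^ Function.update e i k j := by
      intro k; funext j
      rcases eq_or_ne j i with rfl | hj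
      · simp
      · simp [hj]
    have h1 := indep_update hind (g := x i) (h := x i ^ (e i - 1)) hsplit
    have h2 := indep_update hind (g := x i ^ (e i - 1)) (h := x i ^ 1) (by rw [pow_one, mul_comm, ← hsplit])
    have hlen := length_update_add_le hind (g := x i ^ 1) (h := x i ^ (e i - 1)) (by rw [pow_one, ← hsplit])
    rw [hu] at h1 h2
    rw [hu, hu] at hlen
    have hsum : ∀ k, ∑ j, Function.update e i k j + e i = N + k := by
      intro k
      rw [Finset.sum_update_of_mem (Finset.mem_univ i), ← hN,
        ← Finset.add_sum_erase _ e (Finset.mem_univ i), Finset.sdiff_singleton_eq_erase]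
      ring
    have hpos : ∀ k, 1 ≤ k → ∀ j, 1 ≤ Function.update e i k j := fun k hk j => by
      rcases eq_or_ne j i with rfl | hj
      · simpa using hk
      · simpa [hj] using he j
    have l1 := ih (∑ j, Function.update e i (e i - 1) j) (by have := hsum (e i - 1); omega)
      (Function.update e i (e i - 1)) rfl (hpos _ (by omega)) h1
    have l2 := ih (∑ j, Function.update e i 1 j) (by have := hsum 1; omega)
      (Function.update e i 1) rfl (hpos _ le_rfl) h2
    refine le_trans (le_of_eq ?_) ((add_le_add l1 l2).trans hlen)
    rw [← Nat.cast_add]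
    congr 1
    rw [Finset.prod_update_of_mem (Finset.mem_univ i), Finset.prod_update_of_mem (Finset.mem_univ i),
      ← Finset.mul_prod_erase _ e (Finset.mem_univ i), Finset.sdiff_singleton_eq_erase, ← add_mul,
      Nat.sub_add_cancel (he i)]

end Groth.Agent.Kunz43
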