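import Groth.Agent.Kunz43.Lech
import Groth.Agent.CAlg1.Miracle
import Groth.Agent.LA18.FrobLength
import Groth.Prelude.Def_FrobAlg

/-! Kunz: a Noetherian ring of characteristic `p` is regular iff its Frobenius is flat. -/

universe u

namespace Groth.Agent.Kunz43

open IsLocalRing

variable (p : ℕ) [hp : Fact p.Prime]

lemma flat_iterateFrobenius {R : Type u} [CommRing R] [CharP R p] (hF : (frobenius R p).Flat) (e : ℕ) :
    (iterateFrobenius R p e).Flat := by
  induction e with
  | zero => rw [iterateFrobenius_zero]; exact RingHom.Flat.id R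
  | succ e ih =>
    have : iterateFrobenius R p (e + 1) = (frobenius R p).comp (iterateFrobenius R p e) :=
      RingHom.ext fun x => by
        simp only [RingHom.comp_apply, iterateFrobenius_def, frobenius_def, ← pow_mul, pow_succ]
    rw [this]
    exact ih.comp hF

variable {R : Type u} [CommRing R] [IsLocalRing R] [IsNoetherianRing R] [CharP R p]

omit [IsNoetherianRing R] in
lemma indep_of_flat (e : ℕ) (hF : (iterateFrobenius R p e).Flat) {n : ℕ} (x : Fin n → R)
    (hx : ∀ b : Fin n → R, ∑ i, x i * b i = 0 → ∀ i, b i ∈ Ideal.span (Set.range x)) :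
    Indep fun i => x i ^ p ^ e := by
  intro a ha
  let φ := iterateFrobenius R p e
  let : Algebra R (FrobAlg.Twist p R) := φ.toAlgebra
  have : Module.Flat R (FrobAlg.Twist p R) := hF
  let a' : Fin n → FrobAlg.Twist p R := a
  have hrel : ∑ i, x i • a' i = 0 := by
    simp only [Algebra.smul_def]
    change (∑ i, φ (x i) * a i : R) = 0
    simp only [φ, iterateFrobenius_def]
    rw [← ha]
    exact Finset.sum_congr rfl fun i _ => mul_comm _ _
  obtain ⟨k, c, y, hy, hc⟩ := Module.Flat.isTrivialRelation_of_sum_smul_eq_zero (R := R) (M := FrobAlg.Twist p R) (f := x) (x := a') hrel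
  intro i
  have hi := hy i
  simp only [Algebra.smul_def] at hi
  let y' : Fin k → R := y
  change a i = ∑ j, φ (c i j) * y' j at hi
  rw [hi]
  refine sum_mem fun j _ => Ideal.mul_mem_right _ _ ?_
  obtain ⟨d, hd⟩ := Ideal.mem_span_range_iff_exists_fun.mp (hx (fun i => c i j) (hc j) i)
  rw [← hd, map_sum]
  refine sum_mem fun l _ => ?_
  rw [map_mul]
  exact Ideal.mul_mem_left _ _ (Ideal.subset_span ⟨l, (iterateFrobenius_def p e (x l)).symm⟩)

omit [CharP R p] in
/-- the coefficients of a relation among minimal generators of the maximal ideal are not units -/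
lemma coeff_mem_of_minimal {n : ℕ} (x : Fin n → R) (hgen : Ideal.span (Set.range x) = maximalIdeal R)
    (hn : (maximalIdeal R).spanFinrank = n) (b : Fin n → R) (hb : ∑ i, x i * b i = 0) (i : Fin n) :
    b i ∈ Ideal.span (Set.range x) := by
  classical
  rw [hgen, mem_maximalIdeal, mem_nonunits_iff]
  intro hu
  obtain ⟨w, hw⟩ := hu.exists_left_inv
  have hxi : x i ∈ Ideal.span ((Finset.univ.erase i).image x : Set R) := by
    rw [← Finset.add_sum_erase _ _ (Finset.mem_univ i)] at hb
    have : x i = - w * ∑ j ∈ Finset.univ.erase i, x j * b j := by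
      linear_combination w * hb - x i * hw
    rw [this]
    refine Ideal.mul_mem_left _ _ (sum_mem fun j hj => Ideal.mul_mem_right _ _ (Ideal.subset_span ?_))
    exact Finset.mem_coe.mpr (Finset.mem_image_of_mem _ hj)
  have hle : maximalIdeal R ≤ Ideal.span ((Finset.univ.erase i).image x : Set R) := by
    rw [← hgen, Ideal.span_le]
    rintro _ ⟨j, rfl⟩
    rcases eq_or_ne j i with rfl | hj
    · exact hxi
    · exact Ideal.subset_span (Finset.mem_coe.mpr
        (Finset.mem_image_of_mem _ (Finset.mem_erase.mpr ⟨hj, Finset.mem_univ j⟩)))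
  have heq : maximalIdeal R = Ideal.span ((Finset.univ.erase i).image x : Set R) :=
    le_antisymm hle (Ideal.span_le.mpr fun y hy => by
      obtain ⟨j, -, rfl⟩ := Finset.mem_image.mp hy
      rw [← hgen]; exact Ideal.subset_span ⟨j, rfl⟩)
  have hle2 : (maximalIdeal R).spanFinrank ≤ ((Finset.univ.erase i).image x).card := by
    rw [heq, ← Set.ncard_coe_finset]
    exact Submodule.spanFinrank_span_le_ncard_of_finite (Finset.finite_toSet _)
  have hlt : ((Finset.univ.erase i).image x).card < n := by
    refine lt_of_le_of_lt Finset.card_image_le ?_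
    rw [Finset.card_erase_of_mem (Finset.mem_univ i), Finset.card_univ, Fintype.card_fin]
    exact Nat.sub_lt (Fin.pos i) one_pos
  omega

theorem isRegularLocalRing_of_flat (hF : (frobenius R p).Flat) : IsRegularLocalRing R := by
  obtain ⟨d, hd⟩ : ∃ d : ℕ, ringKrullDim R = d := by
    have h1 := ringKrullDim_lt_top (R := R)
    have h2 := ringKrullDim_ne_bot (R := R)
    rcases h : ringKrullDim R with _ | ⟨_ | k⟩
    · exact absurd h h2
    · rw [h] at h1; exact absurd h1 (lt_irrefl _)
    · exact ⟨k, rfl⟩
  refine IsRegularLocalRing.of_spanFinrank_maximalIdeal_le (R := R) ?_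
  rw [hd, Nat.cast_le]
  have hfg : (maximalIdeal R).FG := IsNoetherian.noetherian _
  obtain ⟨n, x, hgen, hn⟩ : ∃ (n : ℕ) (x : Fin n → R), Ideal.span (Set.range x) = maximalIdeal R ∧
      (maximalIdeal R).spanFinrank = n := by
    have hfin := Submodule.FG.finite_generators hfg
    refine ⟨hfin.toFinset.card, fun i => (hfin.toFinset.equivFin.symm i : R), ?_, ?_⟩
    · refine Eq.trans ?_ (maximalIdeal R).span_generators
      congr 1
      ext y
      simp only [Set.mem_range]
      constructor
      · rintro ⟨i, rfl⟩; exact hfin.mem_toFinset.mp (hfin.toFinset.equivFin.symm i).2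
      · intro hy; exact ⟨hfin.toFinset.equivFin ⟨y, hfin.mem_toFinset.mpr hy⟩, by simp⟩
    · rw [← Set.ncard_eq_toFinset_card _ hfin, Submodule.FG.generators_ncard hfg]
  have hxm : ∀ i, x i ∈ maximalIdeal R := fun i => hgen ▸ Ideal.subset_span ⟨i, rfl⟩
  have hfl : IsFiniteLength R (R ⧸ Ideal.span (Set.range x) • (⊤ : Submodule R R)) := by
    have hsimple : IsSimpleModule R (R ⧸ Ideal.span (Set.range x) • (⊤ : Submodule R R)) := by
      rw [isSimpleModule_iff_isCoatom, hgen, smul_eq_mul, Ideal.mul_top]
      exact (maximalIdeal.isMaximal R).out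
    rw [← Module.length_ne_top_iff, Module.length_eq_one]
    exact ENat.one_ne_top
  obtain ⟨C, hC⟩ := Groth.Agent.LA18.length_quot_map_powers_le x R hfl d
    (le_of_eq (by rw [Module.supportDim_self_eq_ringKrullDim, hd]))
  rw [hn]
  by_contra hlt
  push Not at hlt
  -- `p ^ (e n) ≤ C * p ^ (e d)` for every `e`
  let e := C + 1
  have h1 := prod_le_length (fun i => x i) hxm _ (fun _ => p ^ e) rfl
    (fun _ => Nat.one_le_pow _ _ hp.out.pos)
    (indep_of_flat p e (flat_iterateFrobenius p hF e) x (coeff_mem_of_minimal x hgen hn))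
  have h2 := hC (p ^ e) (pow_pos hp.out.pos _)
  rw [smul_eq_mul, Ideal.mul_top] at h2
  have h3 := h1.trans h2
  rw [Finset.prod_const, Finset.card_univ, Fintype.card_fin, Nat.cast_le] at h3
  have h4 : (p ^ e) ^ d * p ^ e ≤ (p ^ e) ^ n := by
    rw [← pow_succ]
    exact Nat.pow_le_pow_right (pow_pos hp.out.pos _) hlt
  have h5 : (p ^ e) ^ d * p ^ e ≤ (p ^ e) ^ d * C := by rw [mul_comm ((p ^ e) ^ d) C]; omega
  have h6 : p ^ e ≤ C := Nat.le_of_mul_le_mul_left h5 (pow_pos (pow_pos hp.out.pos _) _)
  have h7 : e < p ^ e := Nat.lt_pow_self hp.out.one_lt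
  omega

omit [IsNoetherianRing R] in
theorem flat_of_isRegularLocalRing [IsRegularLocalRing R] : (frobenius R p).Flat := by
  let B := FrobAlg.Twist p R
  let : Algebra R B := (frobenius R p).toAlgebra
  have : IsRegularLocalRing B := inferInstanceAs (IsRegularLocalRing R)
  have : LocCoh.IsCohenMacaulayLocalRing B := Groth.Agent.CAlg1.cm_of_isRegularLocalRing B
  have : IsLocalHom (algebraMap R B) := ⟨fun a (ha : IsUnit (a ^ p : R)) =>
    (isUnit_pow_iff hp.out.ne_zero).mp ha⟩
  refine Groth.Agent.CAlg1.miracle_flatness _ R B rfl ?_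
  have hB : ringKrullDim B = ringKrullDim R := rfl
  have hne : (maximalIdeal R).map (algebraMap R B) ≤ maximalIdeal B :=
    Ideal.map_le_iff_le_comap.mpr fun a ha => Groth.Agent.EGA4Alg4.map_mem_maximalIdeal ha
  have : Nontrivial (B ⧸ (maximalIdeal R).map (algebraMap R B)) :=
    Ideal.Quotient.nontrivial_iff.mpr fun h =>
      (maximalIdeal.isMaximal B).ne_top (top_le_iff.mp (h ▸ hne))
  have : Ring.KrullDimLE 0 (B ⧸ (maximalIdeal R).map (algebraMap R B)) := by
    refine Ring.KrullDimLE.mk₀ fun q hq => ?_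
    have hc : (q.comap (Ideal.Quotient.mk ((maximalIdeal R).map (algebraMap R B)))).IsMaximal := by
      have heq : q.comap (Ideal.Quotient.mk ((maximalIdeal R).map (algebraMap R B))) = maximalIdeal B := by
        refine le_antisymm (le_maximalIdeal (Ideal.IsPrime.ne_top inferInstance)) fun a ha => ?_
        refine (Ideal.IsPrime.mem_of_pow_mem inferInstance p ?_)
        rw [Ideal.mem_comap]
        have h0 : Ideal.Quotient.mk ((maximalIdeal R).map (algebraMap R B)) (a ^ p) = 0 :=
          Ideal.Quotient.eq_zero_iff_mem.mpr (Ideal.mem_map_of_mem (algebraMap R B) (x := (a : R)) ha)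
        rw [h0]; exact zero_mem _
      rw [heq]; infer_instance
    have hs := Ideal.Quotient.mk_surjective (I := (maximalIdeal R).map (algebraMap R B))
    rw [← Ideal.map_comap_of_surjective _ hs q]
    have := hc
    exact Ideal.IsMaximal.map_of_surjective_of_ker_le hs
      (m := q.comap (Ideal.Quotient.mk ((maximalIdeal R).map (algebraMap R B)))) (Ideal.comap_mono bot_le)
  have h0 : ringKrullDim (B ⧸ (maximalIdeal R).map (algebraMap R B)) = 0 :=
    ringKrullDimZero_iff_ringKrullDim_eq_zero.mp ‹_›
  rw [h0, hB, add_zero]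

end Groth.Agent.Kunz43
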